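import Cfsg.Agent.Spor.C3SM.C0
import Cfsg.Agent.Spor.C3Sa.Grp
import Cfsg.Agent.Spor.MatChev
import Cfsg.Agent.Class.Sp
import Cfsg.Agent.Blk.Cov1
import Cfsg.Agent.Spor.DC
import Cfsg.Agent.Spor.C3A.Main
import Cfsg.Agent.Spor.C3B.Main
import Cfsg.Agent.Spor.C3C.Main

set_option autoImplicit false
set_option maxRecDepth 100000000
set_option Elab.async false

namespace Cfsg.Agent.Spor.C3SM

theorem rels : AllP (fun w => A.eqS TT w 1 = true) (Ctx.sqRL 0 C3Sa.RL) :=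
  show AllP (fun w => A.eqS TT w 1 = true) [[0, 0, 0], [6, 11, 9, 9, 3, 11, 6, 5, 10, 6, 2, 8, 6, 9, 3, 11, 6, 5, 10, 6, 2, 8, 11, 9, 6, 9, 3, 11, 6, 5, 10, 6, 2, 8, 6, 11, 9, 9, 3, 11, 6, 5, 10, 6, 2, 8, 6, 9, 3, 11, 6, 5, 10, 6, 2, 8, 11, 9, 6, 9, 3, 11, 6, 5, 10, 6, 2, 8], [0, 9, 3, 11, 6, 5, 10, 6, 2, 8, 0, 9, 3, 11, 6, 5, 10, 6, 2, 8, 0, 9, 3, 11, 6, 5, 10, 6, 2, 8], [6, 11, 9, 7, 11, 9, 6, 9, 3, 11, 6, 5, 10, 6, 2, 8, 6, 11, 9, 7, 11, 9, 6, 9, 3, 11, 6, 5, 10, 6, 2, 8], [6, 11, 9, 9, 3, 11, 6, 5, 10, 6, 2, 8, 6, 9, 3, 11, 6, 5, 10, 6, 2, 8, 11, 9, 6, 1, 6, 11, 9, 7, 11, 9, 6, 0, 6, 11, 9, 9, 3, 11, 6, 5, 10, 6, 2, 8, 6, 9, 3, 11, 6, 5, 10, 6, 2, 8, 11, 9, 6, 6, 11, 9, 7, 11, 9, 6], [1, 6, 11, 9, 7, 11, 9, 6, 0, 6, 11, 9, 7, 11, 9, 6], [6, 11, 9, 7, 11, 9, 6, 1, 11, 9, 0, 6, 11, 9, 7, 11, 9,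 6, 11, 9], [6, 11, 9, 9, 3, 11, 6, 5, 10, 6, 2, 8, 6, 9, 3, 11, 6, 5, 10, 6, 2, 8, 11, 9, 6, 11, 9, 6, 11, 9, 9, 3, 11, 6, 5, 10, 6, 2, 8, 6, 9, 3, 11, 6, 5, 10, 6, 2, 8, 11, 9, 6, 11, 9], [9, 3, 11, 6, 5, 10, 6, 2, 8, 11, 9, 9, 3, 11, 6, 5, 10, 6, 2, 8, 11, 9], [0, 6, 11, 9, 9, 3, 11, 6, 5, 10, 6, 2, 8, 6, 9, 3, 11, 6, 5, 10, 6, 2, 8, 11, 9, 6, 0, 6, 11, 9, 9, 3, 11, 6, 5, 10, 6, 2, 8, 6, 9, 3, 11, 6, 5, 10, 6, 2, 8, 11, 9, 6, 0, 6, 11, 9, 9, 3, 11, 6, 5, 10, 6, 2, 8, 6, 9, 3, 11, 6, 5, 10, 6, 2, 8, 11, 9, 6, 0, 6, 11, 9, 9, 3, 11, 6, 5, 10, 6, 2, 8, 6, 9, 3, 11, 6, 5, 10, 6, 2, 8, 11, 9, 6], [0, 9, 3, 11, 6, 5, 10, 6, 2, 8, 6, 11, 9, 9, 3, 11, 6, 5, 10, 6, 2, 8, 6, 9, 3, 11, 6, 5, 10, 6, 2, 8, 11, 9, 6, 0, 6, 11, 9, 9, 3, 11, 6, 5, 10, 6, 2, 8, 6, 9, 3, 11, 6, 5, 10, 6, 2, 8, 11, 9, 6, 9, 3, 11,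 6, 5, 10, 6, 2, 8, 0, 6, 11, 9, 9, 3, 11, 6, 5, 10, 6, 2, 8, 6, 9, 3, 11, 6, 5, 10, 6, 2, 8, 11, 9, 6, 9, 3, 11, 6, 5, 10, 6, 2, 8, 0, 6, 11, 9, 9, 3, 11, 6, 5, 10, 6, 2, 8, 6, 9, 3, 11, 6, 5, 10, 6, 2, 8, 11, 9, 6, 9, 3, 11, 6, 5, 10, 6, 2, 8], [6, 11, 9, 7, 11, 9, 6, 6, 11, 9, 7, 11, 9, 6], [6, 11, 9, 9, 3, 11, 6, 5, 10, 6, 2, 8, 6, 9, 3, 11, 6, 5, 10, 6, 2, 8, 11, 9, 6, 6, 11, 9, 9, 3, 11, 6, 5, 10, 6, 2, 8, 6, 9, 3, 11, 6, 5, 10, 6, 2, 8, 11, 9, 6], [9, 3, 11, 6, 5, 10, 6, 2, 8, 1, 7, 0, 9, 3, 11, 6, 5, 10, 6, 2, 8, 6], [1, 7, 1, 7, 9, 3, 11, 6, 5, 10, 6, 2, 8, 6, 9, 3, 11, 6, 5, 10, 6, 2, 8, 6, 0, 6], [11, 9, 11, 9], [9, 3, 11, 6, 5, 10, 6, 11, 6, 5, 10, 6, 2, 8], [10, 10, 10], [11, 7, 10, 6], [11, 1, 10, 0], [4, 4, 4], [6, 6, 6], [1, 9, 0, 8], [6, 0, 3, 7, 1], [0, 9, 2, 0, 2, 8], [7, 2, 7, 2],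 [8, 4, 8, 4], [8, 8, 8], [6, 0, 5, 8, 3, 9, 7, 1], [8, 7, 5, 7, 8, 4]] from AllP.cons r1 (AllP.cons r2 (AllP.cons r3 (AllP.cons r4 (AllP.cons r5 (AllP.cons r6 (AllP.cons r7 (AllP.cons r8 (AllP.cons r9 (AllP.cons r10 (AllP.cons r11 (AllP.cons r12 (AllP.cons r13 (AllP.cons r14 (AllP.cons r15 (AllP.cons r16 (AllP.cons r17 (AllP.cons r18 (AllP.cons r19 (AllP.cons r20 (AllP.cons r21 (AllP.cons r22 (AllP.cons r23 (AllP.cons r24 (AllP.cons r25 (AllP.cons r26 (AllP.cons r27 (AllP.cons r28 (AllP.cons r29 (AllP.cons r30 (AllP.nil))))))))))))))))))))))))))))))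
theorem rels2 : AllP (fun w => A.eqS TT w 1 = true) (Ctx.sqRL 0 (CJ ++ [zw])) :=
  show AllP (fun w => A.eqS TT w 1 = true) [[0, 4, 2, 5, 1, 5], [2, 4, 0, 5, 3, 0], [2, 5, 2, 4, 3, 4], [0, 2, 6, 3, 1, 6], [2, 7, 0, 6, 3, 0], [0, 8, 1, 9], [2, 8, 4, 9, 3, 9], [4, 8, 6, 9, 5, 6], [6, 8, 4, 9, 7, 9], [4, 9, 4, 8, 5, 8], [0, 10, 1, 11], [2, 10, 3, 11], [6, 10, 7, 11], [4, 10, 8, 11, 5, 11], [0, 0, 0], [2, 2, 2], [4, 4, 4], [6, 6, 6], [8, 8, 8], [10, 10, 10], [2, 0, 2, 0]] from AllP.cons r31 (AllP.cons r32 (AllP.cons r33 (AllP.cons r34 (AllP.cons r35 (AllP.cons r36 (AllP.cons r37 (AllP.cons r38 (AllP.cons r39 (AllP.cons r40 (AllP.cons r41 (AllP.cons r42 (AllP.cons r43 (AllP.cons r44 (AllP.cons r45 (AllP.cons r46 (AllP.cons r47 (AllP.cons r48 (AllP.cons r49 (AllP.cons r50 (AllP.cons r51 (AllP.nil)))))))))))))))))))))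

def e : Fin 3 ⊕ Fin 3 ≃ Fin 6 := finSumFinEquiv

theorem entJ : ∀ r c : Fin 3 ⊕ Fin 3,
    (dig A.B (A.mat Z (e r) (e c)) 0 : ℤ) % A.p = Matrix.J (Fin 3) ℤ r c % A.p := by
  decide +kernel

theorem bound : Bound 6 0 CJ (56 * (432 * 120)) := (C3A.cert.bound' (C3B.cert.bound C3C.cert.bound_nil (H := [([], 0, true), ([], 1, true), ([], 2, true), ([], 10, true), ([], 11, true), ([], 12, true)]) (by decide +kernel)) (H := [([], 0, true), ([], 1, true), ([], 2, true), ([], 3, true), ([], 4, true), ([], 5, true), ([], 6, true), ([], 7, true), ([], 8, true), ([], 9, true), ([], 10, true), ([], 11, true), ([], 12, true), ([], 13, true), ([], 14, true), ([], 15, true), ([], 16, true), ([], 17, true), ([], 18, true), ([], 19, true)]) (H' := [([], 0, true), ([], 1, true), ([], 2, true), ([], 3, true), ([], 4,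 true), ([], 5, true), ([], 6, true), ([], 7, true), ([], 8, true), ([], 9, true), ([], 14, true), ([], 15, true), ([], 16, true), ([], 17, true), ([], 18, true)]) (by decide +kernel) (by decide +kernel))

theorem cj_eq : Mult.cjL (2 * 0) CT CQ = CJ := by decide +kernel

theorem card_sp : Nat.card (Matrix.symplecticGroup (Fin 3) (ZMod 2)) = 1451520 := by
  rw [Class.card_Sp, Nat.card_eq_fintype_card, ZMod.card]; decide +kernel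

theorem gens : IsSimpleGroup (Matrix.symplecticGroup (Fin 3) (ZMod 2)) ∧
    ∃ g : ℕ → Matrix.symplecticGroup (Fin 3) (ZMod 2), gsub 6 g = ⊤ ∧ Pres 6 0 (CJ ++ [zw]) g := by
  let X : Ctx A (ZMod 2) (Fin 3 ⊕ Fin 3) :=
    Ctx.one A e (by decide +kernel) (by decide) (by decide +kernel)
  have hZ : Matrix.J (Fin 3) (ZMod 2) = X.mk' Z :=
    Ctx.eq_mk'_one rfl (Matrix.J (Fin 3) ℤ) (fun r c => by
      rw [← Matrix.map_J (Fin 3) (Int.castRingHom (ZMod 2))]; simp) entJ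
  have hc := Ctx.codA_gen (X := X) gensOk (Ctx.exists_Sp formOk hZ)
  obtain ⟨e, -⟩ := iso_of_simple C3Sa.bound (by norm_num) C3Sa.cert.pres
    (hc.pres Subtype.val_injective rels) C3Sa.lbP C3Sa.simpleP (hc.ne_one ne)
  have : Finite (Matrix.symplecticGroup (Fin 3) (ZMod 2)) :=
    Nat.finite_of_card_ne_zero (by rw [card_sp]; norm_num)
  have ht := Subgroup.eq_top_of_le_card _
    (card_sp.trans (C3Sa.cardP.symm.trans (Nat.card_congr e.toEquiv))).le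
  have := C3Sa.simpleP
  exact ⟨(e.trans ((MulEquiv.subgroupCongr ht).trans Subgroup.topEquiv)).symm.isSimpleGroup, _, ht,
    hc.pres Subtype.val_injective rels2⟩

end Cfsg.Agent.Spor.C3SM
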