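import Cfsg.Agent.Spor.C3SM.D

set_option autoImplicit false
set_option maxRecDepth 100000000
set_option Elab.async false

namespace Cfsg.Agent.Spor.C3SM

theorem gensOk : A.gensOk TT 6 = true := by decide +kernel

theorem r1 : A.eqS TT [0, 0, 0] 1 = true := by decide +kernel

theorem r2 : A.eqS TT [6, 11, 9, 9, 3, 11, 6, 5, 10, 6, 2, 8, 6, 9, 3, 11, 6, 5, 10, 6, 2, 8, 11, 9, 6, 9, 3, 11, 6, 5, 10, 6, 2, 8, 6, 11, 9, 9, 3, 11, 6, 5, 10, 6, 2, 8, 6, 9, 3, 11, 6, 5, 10, 6, 2, 8, 11, 9, 6, 9, 3, 11, 6, 5, 10, 6, 2, 8] 1 = true := by decide +kernel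

theorem r3 : A.eqS TT [0, 9, 3, 11, 6, 5, 10, 6, 2, 8, 0, 9, 3, 11, 6, 5, 10, 6, 2, 8, 0, 9, 3, 11, 6, 5, 10, 6, 2, 8] 1 = true := by decide +kernel

theorem r4 : A.eqS TT [6, 11, 9, 7, 11, 9, 6, 9, 3, 11, 6, 5, 10, 6, 2, 8, 6, 11, 9, 7, 11, 9, 6, 9, 3, 11, 6, 5, 10, 6, 2, 8] 1 = true := by decide +kernel

theorem r5 : A.eqS TT [6, 11, 9, 9, 3, 11, 6, 5, 10, 6, 2, 8, 6, 9, 3, 11, 6, 5, 10, 6, 2, 8, 11, 9, 6, 1, 6, 11, 9, 7, 11, 9, 6, 0, 6, 11, 9, 9, 3, 11, 6, 5, 10, 6, 2, 8, 6, 9, 3, 11, 6, 5, 10, 6, 2, 8, 11, 9, 6, 6, 11, 9, 7, 11, 9, 6] 1 = true := by decide +kernel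

theorem r6 : A.eqS TT [1, 6, 11, 9, 7, 11, 9, 6, 0, 6, 11, 9, 7, 11, 9, 6] 1 = true := by decide +kernel

theorem r7 : A.eqS TT [6, 11, 9, 7, 11, 9, 6, 1, 11, 9, 0, 6, 11, 9, 7, 11, 9, 6, 11, 9] 1 = true := by decide +kernel

theorem r8 : A.eqS TT [6, 11, 9, 9, 3, 11, 6, 5, 10, 6, 2, 8, 6, 9, 3, 11, 6, 5, 10, 6, 2, 8, 11, 9, 6, 11, 9, 6, 11, 9, 9, 3, 11, 6, 5, 10, 6, 2, 8, 6, 9, 3, 11, 6, 5, 10, 6, 2, 8, 11, 9, 6, 11, 9] 1 = true := by decide +kernel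

theorem r9 : A.eqS TT [9, 3, 11, 6, 5, 10, 6, 2, 8, 11, 9, 9, 3, 11, 6, 5, 10, 6, 2, 8, 11, 9] 1 = true := by decide +kernel

theorem r10 : A.eqS TT [0, 6, 11, 9, 9, 3, 11, 6, 5, 10, 6, 2, 8, 6, 9, 3, 11, 6, 5, 10, 6, 2, 8, 11, 9, 6, 0, 6, 11, 9, 9, 3, 11, 6, 5, 10, 6, 2, 8, 6, 9, 3, 11, 6, 5, 10, 6, 2, 8, 11, 9, 6, 0, 6, 11, 9, 9, 3, 11, 6, 5, 10, 6, 2, 8, 6, 9, 3, 11, 6, 5, 10, 6, 2, 8, 11, 9, 6, 0, 6, 11, 9, 9, 3, 11, 6, 5, 10, 6, 2, 8, 6, 9, 3, 11, 6, 5, 10, 6, 2, 8, 11, 9, 6] 1 = true := by decide +kernel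

theorem r11 : A.eqS TT [0, 9, 3, 11, 6, 5, 10, 6, 2, 8, 6, 11, 9, 9, 3, 11, 6, 5, 10, 6, 2, 8, 6, 9, 3, 11, 6, 5, 10, 6, 2, 8, 11, 9, 6, 0, 6, 11, 9, 9, 3, 11, 6, 5, 10, 6, 2, 8, 6, 9, 3, 11, 6, 5, 10, 6, 2, 8, 11, 9, 6, 9, 3, 11, 6, 5, 10, 6, 2, 8, 0, 6, 11, 9, 9, 3, 11, 6, 5, 10, 6, 2, 8, 6, 9, 3, 11, 6, 5, 10, 6, 2, 8, 11, 9, 6, 9, 3, 11, 6, 5, 10, 6, 2, 8, 0, 6, 11, 9, 9, 3, 11, 6, 5, 10, 6, 2, 8, 6, 9, 3, 11, 6, 5, 10, 6, 2, 8, 11, 9, 6, 9, 3, 11, 6, 5, 10, 6, 2, 8] 1 = true := by decide +kernel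

theorem r12 : A.eqS TT [6, 11, 9, 7, 11, 9, 6, 6, 11, 9, 7, 11, 9, 6] 1 = true := by decide +kernel

theorem r13 : A.eqS TT [6, 11, 9, 9, 3, 11, 6, 5, 10, 6, 2, 8, 6, 9, 3, 11, 6, 5, 10, 6, 2, 8, 11, 9, 6, 6, 11, 9, 9, 3, 11, 6, 5, 10, 6, 2, 8, 6, 9, 3, 11, 6, 5, 10, 6, 2, 8, 11, 9, 6] 1 = true := by decide +kernel

theorem r14 : A.eqS TT [9, 3, 11, 6, 5, 10, 6, 2, 8, 1, 7, 0, 9, 3, 11, 6, 5, 10, 6, 2, 8, 6] 1 = true := by decide +kernel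

theorem r15 : A.eqS TT [1, 7, 1, 7, 9, 3, 11, 6, 5, 10, 6, 2, 8, 6, 9, 3, 11, 6, 5, 10, 6, 2, 8, 6, 0, 6] 1 = true := by decide +kernel

theorem r16 : A.eqS TT [11, 9, 11, 9] 1 = true := by decide +kernel

theorem r17 : A.eqS TT [9, 3, 11, 6, 5, 10, 6, 11, 6, 5, 10, 6, 2, 8] 1 = true := by decide +kernel

theorem r18 : A.eqS TT [10, 10, 10] 1 = true := by decide +kernel

theorem r19 : A.eqS TT [11, 7, 10, 6] 1 = true := by decide +kernel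

theorem r20 : A.eqS TT [11, 1, 10, 0] 1 = true := by decide +kernel

theorem r21 : A.eqS TT [4, 4, 4] 1 = true := by decide +kernel

theorem r22 : A.eqS TT [6, 6, 6] 1 = true := by decide +kernel

theorem r23 : A.eqS TT [1, 9, 0, 8] 1 = true := by decide +kernel

theorem r24 : A.eqS TT [6, 0, 3, 7, 1] 1 = true := by decide +kernel

theorem r25 : A.eqS TT [0, 9, 2, 0, 2, 8] 1 = true := by decide +kernel

theorem r26 : A.eqS TT [7, 2, 7, 2] 1 = true := by decide +kernel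

theorem r27 : A.eqS TT [8, 4, 8, 4] 1 = true := by decide +kernel

theorem r28 : A.eqS TT [8, 8, 8] 1 = true := by decide +kernel

theorem r29 : A.eqS TT [6, 0, 5, 8, 3, 9, 7, 1] 1 = true := by decide +kernel

theorem r30 : A.eqS TT [8, 7, 5, 7, 8, 4] 1 = true := by decide +kernel

theorem ne : band (Nat.blt 0 3 || Nat.blt 3 0) (A.entW TT [0] 0 3 1) = true := by decide +kernel

theorem r31 : A.eqS TT [0, 4, 2, 5, 1, 5] 1 = true := by decide +kernel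

theorem r32 : A.eqS TT [2, 4, 0, 5, 3, 0] 1 = true := by decide +kernel

theorem r33 : A.eqS TT [2, 5, 2, 4, 3, 4] 1 = true := by decide +kernel

theorem r34 : A.eqS TT [0, 2, 6, 3, 1, 6] 1 = true := by decide +kernel

theorem r35 : A.eqS TT [2, 7, 0, 6, 3, 0] 1 = true := by decide +kernel

theorem r36 : A.eqS TT [0, 8, 1, 9] 1 = true := by decide +kernel

theorem r37 : A.eqS TT [2, 8, 4, 9, 3, 9] 1 = true := by decide +kernel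

theorem r38 : A.eqS TT [4, 8, 6, 9, 5, 6] 1 = true := by decide +kernel

theorem r39 : A.eqS TT [6, 8, 4, 9, 7, 9] 1 = true := by decide +kernel

theorem r40 : A.eqS TT [4, 9, 4, 8, 5, 8] 1 = true := by decide +kernel

theorem r41 : A.eqS TT [0, 10, 1, 11] 1 = true := by decide +kernel

theorem r42 : A.eqS TT [2, 10, 3, 11] 1 = true := by decide +kernel

theorem r43 : A.eqS TT [6, 10, 7, 11] 1 = true := by decide +kernel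

theorem r44 : A.eqS TT [4, 10, 8, 11, 5, 11] 1 = true := by decide +kernel

theorem r45 : A.eqS TT [0, 0, 0] 1 = true := by decide +kernel

theorem r46 : A.eqS TT [2, 2, 2] 1 = true := by decide +kernel

theorem r47 : A.eqS TT [4, 4, 4] 1 = true := by decide +kernel

theorem r48 : A.eqS TT [6, 6, 6] 1 = true := by decide +kernel

theorem r49 : A.eqS TT [8, 8, 8] 1 = true := by decide +kernel

theorem r50 : A.eqS TT [10, 10, 10] 1 = true := by decide +kernel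

theorem r51 : A.eqS TT [2, 0, 2, 0] 1 = true := by decide +kernel

theorem formOk : A.formOk TT TR Z 6 = true := by decide +kernel

end Cfsg.Agent.Spor.C3SM
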