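import Cfsg.Agent.Spor.MatQ

set_option autoImplicit false
set_option maxRecDepth 100000000
set_option Elab.async false
noncomputable section

namespace Cfsg.Agent.Spor.C3SM

def A : Ar := ⟨2, 5, 6, 1, 1⟩
def TT : List (List Nat) := [[0x1, 0x2100420, 0x2100000, 0x2108421, 0x2000421, 0x100400],
  [0x1, 0x2100401, 0x2100021, 0x8021, 0x100021, 0x100421],
  [0x2008420, 0x20, 0x2008021, 0x8021, 0x100021, 0x8421],
  [0x2008401, 0x20, 0x2008000, 0x2000421, 0x2108421, 0x8400],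
  [0x2008401, 0x20, 0x2008000, 0x2000401, 0x100000, 0x8400],
  [0x2008400, 0x20, 0x2008001, 0x8001, 0x100000, 0x8401],
  [0x8421, 0x20, 0x2008000, 0x8000, 0x2100020, 0x2008420],
  [0x2008401, 0x20, 0x2000420, 0x8000, 0x108420, 0x8400],
  [0x108421, 0x108400, 0x400, 0x100421, 0x8420, 0x2108420],
  [0x108420, 0x108401, 0x400, 0x8001, 0x8421, 0x2108421],
  [0x108420, 0x108401, 0x2108000, 0x2008021, 0x2100021, 0x2108421],
  [0x2108401, 0x2108420, 0x2000421, 0x100421, 0x8421, 0x108400]]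
def CT : List (List Nat × Nat × Nat) := [([0, 4], 2, 4), ([2, 4], 0, 1), ([2, 5], 2, 5), ([0, 2], 6, 7), ([2, 7], 0, 1), ([0], 8, 8), ([2, 8], 4, 8), ([4, 8], 6, 7), ([6, 8], 4, 8), ([4, 9], 4, 9), ([0], 10, 10), ([2], 10, 10), ([6], 10, 10), ([4, 10], 8, 10)]
def CQ : List (Nat × Nat) := [(0, 3), (2, 3), (4, 3), (6, 3), (8, 3), (10, 3)]
def CJ : List (List Nat) := [[0, 4, 2, 5, 1, 5], [2, 4, 0, 5, 3, 0], [2, 5, 2, 4, 3, 4], [0, 2, 6, 3, 1, 6], [2, 7, 0, 6, 3, 0], [0, 8, 1, 9], [2, 8, 4, 9, 3, 9], [4, 8, 6, 9, 5, 6], [6, 8, 4, 9, 7, 9], [4, 9, 4, 8, 5, 8], [0, 10, 1, 11], [2, 10, 3, 11], [6, 10, 7, 11], [4, 10, 8, 11, 5, 11], [0, 0, 0], [2, 2, 2], [4, 4, 4], [6, 6, 6], [8, 8, 8], [10, 10, 10]]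
def zw : List Nat := [2, 0, 2, 0]
def TR : List (List Nat) := [[0x108001, 0x108020, 0x2108020, 0x8000, 0x2008420, 0x108420],
  [0x2108400, 0x2108421, 0x2000001, 0x2008401, 0x100000, 0x401],
  [0x8001, 0x20, 0x2008001, 0x2000401, 0x100000, 0x8401],
  [0x1, 0x2100021, 0x2000001, 0x2008401, 0x100000, 0x2100400],
  [0x8001, 0x2108001, 0x2108421, 0x2100021, 0x2008021, 0x2000000],
  [0x2108020, 0x2108001, 0x2000021, 0x2008421, 0x2100421, 0x2108400]]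
def Z : List Nat := [0x8000, 0x100000, 0x2000000, 0x1, 0x20, 0x400]

end Cfsg.Agent.Spor.C3SM
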